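import Mathlib
import Groth.Agent.Lib.Helper2.GSSGen6

/-! # Resolutions by acyclic objects compute right derived functors. -/

set_option autoImplicit false
universe w w' v v' u u'
open CategoryTheory Limits

namespace Groth.Agent.LD.RP

open Groth.Agent.H2.RDer Groth.Agent.H2.GSSGen

variable {C : Type u} [Category.{v} C] [Abelian C] [HasDerivedCategory.{w} C] [EnoughInjectives C]
  {D : Type u'} [Category.{v'} D] [Abelian D] [HasDerivedCategory.{w'} D]
  (F : C ⥤ D) [F.Additive] [PreservesFiniteLimits F]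

/-- a bounded below resolution of `X` by `F`-acyclic objects computes `RⁿF X`. -/
theorem nonempty_rightDerived_iso_homology_of_acyc
    (K : CochainComplex C ℤ) [K.IsStrictlyGE 0] (hK : ∀ n, acyc F (K.X n))
    (X : C) (ε : (CochainComplex.singleFunctor C 0).obj X ⟶ K) [QuasiIso ε] (p : ℕ) :
    Nonempty ((F.rightDerived p).obj X ≅
      ((F.mapHomologicalComplex (ComplexShape.up ℤ)).obj K).homology (p : ℤ)) := by
  let V : DerivedCategory.Plus C := DerivedCategory.Plus.Qh.obj (plusObj K 0)
  have hq : IsIso (DerivedCategory.Q.map ε) := by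
    rw [DerivedCategory.isIso_Q_map_iff_quasiIso]
    infer_instance
  let e₁ : DerivedCategory.Plus.ι.obj V ≅ (DerivedCategory.singleFunctor C 0).obj X :=
    (DerivedCategory.quotientCompQhIso C).app K ≪≫
      (asIso (DerivedCategory.Q.map ε)).symm ≪≫
      ((DerivedCategory.singleFunctorIsoCompQ C 0).app X).symm
  haveI : V.IsGE 0 := by
    rw [← DerivedCategory.Plus.isGE_ι_obj_iff]
    exact DerivedCategory.TStructure.t.isGE_of_iso e₁.symm 0
  haveI : V.IsLE 0 := by
    rw [← DerivedCategory.Plus.isLE_ι_obj_iff]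
    exact DerivedCategory.TStructure.t.isLE_of_iso e₁.symm 0
  let eY : (DerivedCategory.Plus.homologyFunctor C 0).obj V ≅ X :=
    (DerivedCategory.homologyFunctor C 0).mapIso e₁ ≪≫
      (DerivedCategory.singleFunctorCompHomologyFunctorIso C 0).app X
  obtain ⟨a⟩ := nonempty_Φ_shift_heart_iso F V p
  obtain ⟨b⟩ := nonempty_Φ_shift_iso_of_acyc F K 0 hK (p : ℤ)
  exact ⟨(F.rightDerived p).mapIso eY.symm ≪≫ a.symm ≪≫ b⟩

end Groth.Agent.LD.RP
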