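import Mathlib
import Groth.Agent.Lib.Lead.KT.HomAcyc
import Groth.Agent.Lib.Lead.SC.TotAcyc
import Groth.Agent.Lib.Lead.SC.RPush
import Groth.Agent.Lib.Lead.RP.AcycRes

/-! # Injective modules have totally acyclic underlying abelian sheaves. -/

set_option autoImplicit false
universe u
open CategoryTheory Limits Opposite Abelian

namespace Groth.Agent.LD.RP

open Groth.Agent.LD.KT Groth.Agent.LD.MS

variable {C : Type u} [SmallCategory C] {J : GrothendieckTopology C}
  (O : Sheaf J CommRingCat.{u})

theorem subsingleton_ext_toAb_of_injective (I : ModSite.Mod O)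
    [Injective I] (A : Sheaf J AddCommGrpCat.{u}) (hA : IsTF A) (n : ℕ) :
    Subsingleton (Ext.{u} A (ModSite.toAb I) (n + 1)) := by
  have hΦ : ∀ (S : ShortComplex (Sheaf J AddCommGrpCat.{u})), S.ShortExact → IsTF S.X₃ →
      Mono ((L (ModSite.ringSh O)).map S.f) := fun S hS h3 =>
    (shortExact_map_L O S hS h3).mono_f
  exact subsingleton_ext_of_adj (L (ModSite.ringSh O))
    (SheafOfModules.toSheaf (ModSite.ringSh O)) (Ladj (ModSite.ringSh O)) IsTF exists_tf_epi
    (fun S hS h2 _ => by
      have := hS.mono_f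
      exact isTF_of_mono S.f h2) hΦ I n A hA

theorem isTotallyAcyclic_toAb_of_injective (I : ModSite.Mod O) [Injective I] :
    CohCx.IsTotallyAcyclic (ModSite.toAb I) :=
  fun K p => subsingleton_ext_toAb_of_injective O I _ (isTF_ZR K.obj) p

end Groth.Agent.LD.RP
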