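import Mathlib
import Groth.Prelude.Def_Coh
import Groth.Agent.Lib.Lead.RP.ToAb
import Groth.Agent.Lib.Lead.MS.PushLeftAdj

/-! # Higher direct images of modules versus those of the underlying abelian sheaves. -/

set_option autoImplicit false
universe u
open CategoryTheory Limits Opposite Abelian AlgebraicGeometry TopologicalSpace

namespace Groth.Agent.LD.RP

open Groth.Agent.H2.RDer Groth.Agent.H2.GSSGen

attribute [local instance] HasDerivedCategory.standard

variable {X Y : Scheme.{u}} (f : X ⟶ Y)

/-- the forgetful functor to abelian sheaves. -/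
noncomputable abbrev τ (X : Scheme.{u}) : X.Modules ⥤ Sheaf (Opens.grothendieckTopology X) AddCommGrpCat.{u} :=
  SheafOfModules.toSheaf X.ringCatSheaf

/-- `toAb ∘ f_* = f_* ∘ toAb`. -/
noncomputable def τPushIso : τ X ⋙ Coh.pushAb f ≅ Scheme.Modules.pushforward f ⋙ τ Y :=
  NatIso.ofComponents (fun _ => Iso.refl _) (by
    intro M N g
    rfl)

instance : (τ X).Additive :=
  inferInstanceAs (SheafOfModules.toSheaf.{u} X.ringCatSheaf).Additive

instance : PreservesFiniteLimits (τ X) :=
  inferInstanceAs (PreservesFiniteLimits (SheafOfModules.toSheaf.{u} X.ringCatSheaf))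

instance : PreservesFiniteColimits (τ X) := by
  haveI : PreservesColimitsOfSize.{u, u} (SheafOfModules.toSheaf.{u} X.ringCatSheaf) :=
    Groth.Agent.LD.MS.toSheaf_preservesColimits _
  exact (PreservesColimitsOfSize.preservesFiniteColimits
    (SheafOfModules.toSheaf.{u} X.ringCatSheaf) : PreservesFiniteColimits (SheafOfModules.toSheaf.{u} X.ringCatSheaf))

/-- injective modules are acyclic for the direct image of abelian sheaves. -/
theorem acyc_pushAb_of_injective (I : X.Modules) [Injective I] :
    acyc (Coh.pushAb f) ((τ X).obj I) := by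
  intro i hi
  obtain ⟨k, rfl⟩ : ∃ k, i = k + 1 := ⟨i - 1, by omega⟩
  have hI : CohCx.IsTotallyAcyclic (ModSite.toAb (O := X.sheaf) I) :=
    @isTotallyAcyclic_toAb_of_injective _ _ _ X.sheaf I ‹_›
  exact Groth.Agent.LD.SC.isZero_rightDerived_push f.base Set.univ
    (by
      rw [Opens.isBasis_iff_nbhd]
      intro U x hx
      exact ⟨U, Set.mem_univ _, hx, le_rfl⟩) 0
    (fun V _ i _ => Groth.Agent.LD.SC.subsingleton_ext_of_isTotallyAcyclic _ _ hI _ i) k (Nat.zero_le _)

end Groth.Agent.LD.RP
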