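import Mathlib
import Groth.Prelude.Def_Coh
import Groth.Agent.Lib.Lead.RP.Compare
import Groth.Agent.Lib.Lead.RP.AcycRes

/-! # `toAb (Rⁿ f_* M) ≅ Rⁿ f_*^{ab} (toAb M)`. -/

set_option autoImplicit false
universe u
open CategoryTheory Limits Opposite Abelian AlgebraicGeometry TopologicalSpace

namespace Groth.Agent.LD.RP

open Groth.Agent.H2.RDer Groth.Agent.H2.GSSGen

attribute [local instance] HasDerivedCategory.standard

variable {X Y : Scheme.{u}} (f : X ⟶ Y)

instance (X : Scheme.{u}) : (τ X).PreservesHomology := by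
  infer_instance

theorem nonempty_toAb_Rpush_iso [HasInjectiveResolutions X.Modules] (M : X.Modules) (n : ℕ) :
    Nonempty ((τ Y).obj ((Coh.Rpush f n).obj M) ≅ (Coh.RpushAb f n).obj ((τ X).obj M)) := by
  haveI := Groth.Agent.H1.sheafOfModules_isGrothendieckAbelian
    (Opens.grothendieckTopology X) X.ringCatSheaf
  haveI : EnoughInjectives X.Modules := inferInstanceAs (EnoughInjectives (SheafOfModules.{u} X.ringCatSheaf))
  let Φ := Scheme.Modules.pushforward f
  let I : InjectiveResolution M := injectiveResolution M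
  let K : CochainComplex (Sheaf (Opens.grothendieckTopology X) AddCommGrpCat.{u}) ℤ :=
    ((τ X).mapHomologicalComplex (ComplexShape.up ℤ)).obj I.cochainComplex
  haveI : CochainComplex.IsStrictlyGE K 0 := by
    rw [CochainComplex.isStrictlyGE_iff]
    intro i hi
    exact (τ X).map_isZero (I.cochainComplex.isZero_of_isStrictlyGE 0 i hi)
  let ε : (CochainComplex.singleFunctor _ 0).obj ((τ X).obj M) ⟶ K :=
    (HomologicalComplex.singleMapHomologicalComplex (τ X) (ComplexShape.up ℤ) 0).inv.app M ≫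
      ((τ X).mapHomologicalComplex _).map I.ι'
  haveI h1 : QuasiIso (((τ X).mapHomologicalComplex (ComplexShape.up ℤ)).map I.ι') :=
    HomologicalComplex.quasiIso_map_of_preservesHomology _ _
  haveI h0 : IsIso ((HomologicalComplex.singleMapHomologicalComplex (τ X) (ComplexShape.up ℤ) 0).inv.app M) :=
    inferInstance
  haveI h0' : QuasiIso ((HomologicalComplex.singleMapHomologicalComplex (τ X) (ComplexShape.up ℤ) 0).inv.app M) :=
    inferInstance
  haveI : QuasiIso ε := by
    dsimp only [ε]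
    exact @quasiIso_comp _ _ _ _ _ _ _ _ _ _ _ _ _ h0' h1
  obtain ⟨e₂⟩ := nonempty_rightDerived_iso_homology_of_acyc (Coh.pushAb f) K
    (fun n => acyc_pushAb_of_injective f _) ((τ X).obj M) ε n
  let e₁ := rightDerivedIsoHomology' Φ I n
  let L := (Φ.mapHomologicalComplex (ComplexShape.up ℤ)).obj I.cochainComplex
  let e₃ : ((L.sc (n : ℤ)).map (τ Y)).homology ≅ (τ Y).obj (L.sc (n : ℤ)).homology :=
    (L.sc (n : ℤ)).mapHomologyIso (τ Y)
  let e₄ : ((τ Y).mapHomologicalComplex (ComplexShape.up ℤ)).obj L ≅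
      ((Coh.pushAb f).mapHomologicalComplex (ComplexShape.up ℤ)).obj K :=
    HomologicalComplex.Hom.isoOfComponents (fun _ => Iso.refl _) (by
      intro i j _
      rfl)
  exact ⟨(τ Y).mapIso e₁ ≪≫ e₃.symm ≪≫
    (HomologicalComplex.homologyFunctor _ _ (n : ℤ)).mapIso e₄ ≪≫ e₂.symm⟩

end Groth.Agent.LD.RP
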