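import Mathlib
import Groth.Prelude.Def_Coh
import Groth.Agent.Lib.Lead.RP.Compare2
import Groth.Agent.Lib.Lead.AbPull.PushAcyc

/-! # Modules whose underlying abelian sheaf is totally acyclic are `f_*`-acyclic. -/

set_option autoImplicit false
universe u
open CategoryTheory Limits Opposite Abelian AlgebraicGeometry TopologicalSpace

namespace Groth.Agent.LD.RP

open Groth.Agent.H2.RDer Groth.Agent.H2.GSSGen

variable {X Y : Scheme.{u}} (f : X ⟶ Y)

/-- totally acyclic abelian sheaves are acyclic for the direct image. -/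
theorem acyc_pushAb_of_isTotallyAcyclic (A : Sheaf (Opens.grothendieckTopology X) AddCommGrpCat.{u})
    (hA : CohCx.IsTotallyAcyclic A) : acyc (Coh.pushAb f) A := by
  intro i hi
  obtain ⟨k, rfl⟩ : ∃ k, i = k + 1 := ⟨i - 1, by omega⟩
  exact Groth.Agent.LD.SC.isZero_rightDerived_push f.base Set.univ
    (by
      rw [Opens.isBasis_iff_nbhd]
      intro U x hx
      exact ⟨U, Set.mem_univ _, hx, le_rfl⟩) 0
    (fun V _ i _ => Groth.Agent.LD.SC.subsingleton_ext_of_isTotallyAcyclic _ _ hA _ i) k (Nat.zero_le _)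

/-- direct images of totally acyclic abelian sheaves are totally acyclic. -/
theorem isTotallyAcyclic_pushAb (A : Sheaf (Opens.grothendieckTopology X) AddCommGrpCat.{u})
    (hA : CohCx.IsTotallyAcyclic A) : CohCx.IsTotallyAcyclic ((Coh.pushAb f).obj A) := by
  haveI : PreservesFiniteLimits ((Opens.map f.base).sheafPullback (Type u)
      (Opens.grothendieckTopology Y) (Opens.grothendieckTopology X)) :=
    Functor.sheafPullbackConstruction.preservesFiniteLimits _ (Type u) _ _
  exact Groth.Agent.LD.AbPull.isTotallyAcyclic_push (Opens.grothendieckTopology X)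
    (Opens.grothendieckTopology Y) (Opens.map f.base) A hA

/-- `τ` reflects zero objects. -/
theorem isZero_of_isZero_τ (N : X.Modules) (h : IsZero ((τ X).obj N)) : IsZero N := by
  haveI : (τ X).Faithful := inferInstanceAs (SheafOfModules.toSheaf.{u} X.ringCatSheaf).Faithful
  rw [IsZero.iff_id_eq_zero]
  apply (τ X).map_injective
  rw [CategoryTheory.Functor.map_id, CategoryTheory.Functor.map_zero]
  exact (IsZero.iff_id_eq_zero _).1 h

/-- **Lemma A.** -/
theorem isZero_Rpush_of_isTotallyAcyclic [HasInjectiveResolutions X.Modules] (N : X.Modules)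
    (hN : CohCx.IsTotallyAcyclic ((τ X).obj N)) (q : ℕ) (hq : 0 < q) :
    IsZero ((Coh.Rpush f q).obj N) := by
  obtain ⟨e⟩ := nonempty_toAb_Rpush_iso f N q
  exact isZero_of_isZero_τ _ (IsZero.of_iso (acyc_pushAb_of_isTotallyAcyclic f _ hN q hq) e)

end Groth.Agent.LD.RP
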