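import Mathlib

/-! # Exactness of conjugate transformations at injective objects.

Abstract form of: `0 → Hom(F'', Q) → Hom(F, Q) → Hom(F', Q) → 0` is exact for `Q` injective. -/

universe v u
open CategoryTheory Limits

namespace Groth.Agent.LD.RP.ConjExact

variable {A : Type u} [Category.{v} A] [Abelian A]
  {L₁ L₂ L₃ R₁ R₂ R₃ : A ⥤ A}

lemma homEquiv_symm_conj (adj₁ : L₁ ⊣ R₁) (adj₂ : L₂ ⊣ R₂) (α : L₁ ⟶ L₂) {P Q : A}
    (φ : P ⟶ R₂.obj Q) :
    (adj₁.homEquiv P Q).symm (φ ≫ (conjugateEquiv adj₂ adj₁ α).app Q) =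
      α.app P ≫ (adj₂.homEquiv P Q).symm φ := by
  rw [Adjunction.homEquiv_counit, Adjunction.homEquiv_counit, Functor.map_comp, Category.assoc,
    conjugateEquiv_counit, ← Category.assoc, α.naturality, Category.assoc]

lemma homEquiv_symm_zero (adj₁ : L₁ ⊣ R₁) [L₁.PreservesZeroMorphisms] (P Q : A) :
    (adj₁.homEquiv P Q).symm 0 = 0 := by
  rw [Adjunction.homEquiv_counit, Functor.map_zero, zero_comp]

variable (adj₁ : L₁ ⊣ R₁) (adj₂ : L₂ ⊣ R₂) (adj₃ : L₃ ⊣ R₃)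
  (α : L₁ ⟶ L₂) (β : L₂ ⟶ L₃)
  [L₁.PreservesZeroMorphisms]

include adj₁ in
lemma conj_comp_zero (hw : ∀ P, α.app P ≫ β.app P = 0) (Q : A) :
    (conjugateEquiv adj₃ adj₂ β).app Q ≫ (conjugateEquiv adj₂ adj₁ α).app Q = 0 := by
  apply (adj₁.homEquiv _ _).symm.injective
  rw [homEquiv_symm_conj adj₁ adj₂ α, homEquiv_symm_zero adj₁]
  have h := homEquiv_symm_conj adj₂ adj₃ β (𝟙 (R₃.obj Q))
  rw [Category.id_comp] at h
  rw [h, reassoc_of% (hw _), zero_comp]

theorem shortExact_conj (hw : ∀ P, α.app P ≫ β.app P = 0)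
    (h1 : ∀ P, (ShortComplex.mk (α.app P) (β.app P) (hw P)).Exact) (h1' : ∀ P, Epi (β.app P))
    (h2 : ∀ P : A, ∃ (G : A) (π : G ⟶ P), Epi π ∧ Mono (α.app G))
    (Q : A) [Injective Q] :
    (ShortComplex.mk ((conjugateEquiv adj₃ adj₂ β).app Q) ((conjugateEquiv adj₂ adj₁ α).app Q)
      (conj_comp_zero adj₁ adj₂ adj₃ α β hw Q)).ShortExact := by
  refine ShortComplex.ShortExact.mk' ?_ ?_ ?_
  · -- exactness
    rw [ShortComplex.exact_iff_exact_up_to_refinements]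
    intro P y hy
    dsimp only at y hy
    have hy' : α.app P ≫ (adj₂.homEquiv P Q).symm y = 0 := by
      rw [← homEquiv_symm_conj adj₁ adj₂ α, hy, homEquiv_symm_zero adj₁]
    haveI := h1' P
    let x' : L₃.obj P ⟶ Q := (h1 P).desc ((adj₂.homEquiv P Q).symm y) hy'
    have hx' : β.app P ≫ x' = (adj₂.homEquiv P Q).symm y := (h1 P).g_desc _ _
    refine ⟨P, 𝟙 P, inferInstance, adj₃.homEquiv P Q x', ?_⟩
    rw [Category.id_comp]
    apply (adj₂.homEquiv _ _).symm.injective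
    dsimp only
    rw [homEquiv_symm_conj adj₂ adj₃ β, Equiv.symm_apply_apply, hx']
  · -- mono
    dsimp only
    apply Preadditive.mono_of_cancel_zero
    intro P x hx
    haveI := h1' P
    have h := homEquiv_symm_conj adj₂ adj₃ β x
    have h0 := homEquiv_symm_conj adj₂ adj₃ β (0 : P ⟶ R₃.obj Q)
    rw [hx] at h
    rw [zero_comp] at h0
    have h3 : (adj₃.homEquiv P Q).symm x = (adj₃.homEquiv P Q).symm 0 := by
      rw [← cancel_epi (β.app P), ← h, ← h0]
    exact (adj₃.homEquiv P Q).symm.injective h3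
  · -- epi
    dsimp only
    rw [epi_iff_surjective_up_to_refinements]
    intro P z
    obtain ⟨G, π, hπ, hG⟩ := h2 P
    let k : L₂.obj G ⟶ Q := Injective.factorThru ((adj₁.homEquiv G Q).symm (π ≫ z)) (α.app G)
    have hk : α.app G ≫ k = (adj₁.homEquiv G Q).symm (π ≫ z) := Injective.comp_factorThru _ _
    refine ⟨G, π, hπ, adj₂.homEquiv G Q k, ?_⟩
    apply (adj₁.homEquiv _ _).symm.injective
    rw [homEquiv_symm_conj adj₁ adj₂ α, Equiv.symm_apply_apply, hk]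

end Groth.Agent.LD.RP.ConjExact
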