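import Mathlib
import Groth.Prelude.Def_Coh
import Groth.Prelude.Def_SpSeq
import Groth.Agent.Lib.Lead.RP.LemmaA
import Groth.Agent.Lib.Helper2.GSSGen6
import Groth.Agent.Lib.Lead.KT.HomAcyc
import Groth.Agent.Lib.Lead.EZ.DerivedIso
import Groth.Agent.Lib.Lead.GSS.Coker

/-! # The spectral sequence `R^a g_* Ext^b_f(F, G) ⇒ Ext^{a+b}_{gf}(F, G)`. -/

set_option autoImplicit false
universe u
open CategoryTheory Limits Opposite Abelian AlgebraicGeometry TopologicalSpace
open scoped ZeroObject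

namespace Groth.Agent.LD.RP

open Groth.Agent.H2.RDer Groth.Agent.H2.GSSGen Groth.Agent.LD.GSS

theorem exists_relExt_ss (X Y Z : Scheme.{u}) (f : X ⟶ Y) (g : Y ⟶ Z)
    (F G : X.Modules)
    [ModSite.HasSheafHom (O := X.sheaf) F] [HasInjectiveResolutions (ModSite.Mod X.sheaf)] [HasInjectiveResolutions Y.Modules]
    [(ModSite.sheafHom (O := X.sheaf) F ⋙ Scheme.Modules.pushforward f).Additive]
    [(ModSite.sheafHom (O := X.sheaf) F ⋙ Scheme.Modules.pushforward (f ≫ g)).Additive] :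
    ∃ (E : E₂CohomologicalSpectralSequence Z.Modules)
      (a : SpSeq.Abutment E (fun n : ℤ =>
        if 0 ≤ n then ((ModSite.sheafHom (O := X.sheaf) F ⋙ Scheme.Modules.pushforward (f ≫ g)).rightDerived n.toNat).obj G else (0 : Z.Modules))),
      (∀ n : ℤ, a.IsFinite n) ∧ SpSeq.IsBounded E ∧
      ∀ p q : ℤ, Nonempty ((E.page 2 le_rfl).X (p, q) ≅
        (if 0 ≤ p ∧ 0 ≤ q then (Coh.Rpush g p.toNat).obj (((ModSite.sheafHom (O := X.sheaf) F ⋙ Scheme.Modules.pushforward f).rightDerived q.toNat).obj G)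
          else (0 : Z.Modules))) := by
  let T : ModSite.Mod X.sheaf ⥤ Y.Modules :=
    ModSite.sheafHom (O := X.sheaf) F ⋙ Scheme.Modules.pushforward f
  let S : Y.Modules ⥤ Z.Modules := Scheme.Modules.pushforward g
  haveI : PreservesLimitsOfSize.{0, 0} S :=
    (Scheme.Modules.pullbackPushforwardAdjunction g).rightAdjoint_preservesLimits
  haveI : PreservesFiniteLimits S := PreservesLimitsOfSize.preservesFiniteLimits.{0, 0} S
  have hT : ∀ Q : ModSite.Mod X.sheaf, Injective Q → ∀ q : ℕ, 0 < q →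
      IsZero ((S.rightDerived q).obj (T.obj Q)) := by
    intro Q hQ q hq
    haveI := hQ
    have h0 : CohCx.IsTotallyAcyclic ((τ Y).obj (T.obj Q)) :=
      isTotallyAcyclic_pushAb f _
        (Groth.Agent.LD.KT.isTotallyAcyclic_sheafHom_of_injective (O := X.sheaf) F Q)
    exact isZero_Rpush_of_isTotallyAcyclic g (T.obj Q) h0 q hq
  obtain ⟨E, a, h1, h2, h3⟩ := exists_gss T S hT G
  let e : (T ⋙ S) ≅ ModSite.sheafHom (O := X.sheaf) F ⋙ Scheme.Modules.pushforward (f ≫ g) :=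
    Functor.associator _ _ _ ≪≫ Functor.isoWhiskerLeft _ (Scheme.Modules.pushforwardComp f g)
  let ι : ∀ n : ℤ, (if 0 ≤ n then ((T ⋙ S).rightDerived n.toNat).obj G else (0 : Z.Modules)) ≅
      (if 0 ≤ n then ((ModSite.sheafHom (O := X.sheaf) F ⋙ Scheme.Modules.pushforward (f ≫ g)).rightDerived n.toNat).obj G else (0 : Z.Modules)) :=
    fun n => if h : 0 ≤ n then
      eqToIso (if_pos h) ≪≫ (Groth.Agent.LD.EZ.rightDerivedIsoOfIso e n.toNat).app G ≪≫
        eqToIso (if_pos h).symm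
      else eqToIso (by rw [if_neg h, if_neg h])
  exact ⟨E, abutmentOfIso a ι, fun n => abutmentOfIso_isFinite a _ n (h1 n), h2, h3⟩

end Groth.Agent.LD.RP
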