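import Mathlib
import Groth.Prelude.Def_ExtSupp
import Groth.Agent.Lib.Lead.RP.ConjExact
import Groth.Agent.Lib.Lead.MS.Flat2
import Groth.Agent.Lib.Lead.MS.FlatSES

/-! # `Hom_O(-, Q)` is exact for `Q` injective. -/

set_option autoImplicit false
universe u
open CategoryTheory Limits Opposite Abelian

namespace Groth.Agent.LD.RP

open Groth.Agent.LD.MS

variable {C : Type u} [SmallCategory C] {J : GrothendieckTopology C} (O : Sheaf J CommRingCat.{u})

section
variable (S : ShortComplex (ModSite.Mod O))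
  [ModSite.HasSheafHom S.X₁] [ModSite.HasSheafHom S.X₂] [ModSite.HasSheafHom S.X₃]

lemma tensor_zero (P : ModSite.Mod O) :
    ((ModSite.tensorBi O).flip.map S.f).app P ≫ ((ModSite.tensorBi O).flip.map S.g).app P = 0 := by
  rw [← NatTrans.comp_app, ← Functor.map_comp, S.zero, Functor.map_zero]
  rfl

theorem sheafHomMap_comp_zero_app (Q : ModSite.Mod O) :
    (ExtSupp.sheafHomMap S.g).app Q ≫ (ExtSupp.sheafHomMap S.f).app Q = 0 :=
  ConjExact.conj_comp_zero (ModSite.sheafHomAdj S.X₁) (ModSite.sheafHomAdj S.X₂)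
    (ModSite.sheafHomAdj S.X₃) ((ModSite.tensorBi O).flip.map S.f)
    ((ModSite.tensorBi O).flip.map S.g) (tensor_zero O S) Q

theorem sheafHomMap_comp_zero :
    ExtSupp.sheafHomMap S.g ≫ ExtSupp.sheafHomMap S.f = 0 := by
  apply NatTrans.ext
  funext Q
  exact sheafHomMap_comp_zero_app O S Q

theorem shortExact_sheafHomMap (hS : S.ShortExact) (Q : ModSite.Mod O) [Injective Q] :
    (ShortComplex.mk ((ExtSupp.sheafHomMap S.g).app Q) ((ExtSupp.sheafHomMap S.f).app Q)
      (sheafHomMap_comp_zero_app O S Q)).ShortExact := by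
  haveI := hS.epi_g
  haveI := hS.mono_f
  refine ConjExact.shortExact_conj (ModSite.sheafHomAdj S.X₁) (ModSite.sheafHomAdj S.X₂)
    (ModSite.sheafHomAdj S.X₃) ((ModSite.tensorBi O).flip.map S.f)
    ((ModSite.tensorBi O).flip.map S.g) (tensor_zero O S) ?_ ?_ ?_ Q
  · intro P
    haveI := preservesFiniteColimits_obj (O := O) P
    exact (exact_map_of_rightExact ((ModSite.tensorBi O).obj P) S hS.exact).1
  · intro P
    haveI := preservesFiniteColimits_obj (O := O) P
    exact (exact_map_of_rightExact ((ModSite.tensorBi O).obj P) S hS.exact).2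
  · intro P
    obtain ⟨G, π, hG, hπ⟩ := exists_flat_epi P
    haveI := preservesMono_obj_of_isFlat hG
    exact ⟨G, π, hπ, inferInstanceAs (Mono (((ModSite.tensorBi O).obj G).map S.f))⟩

end

end Groth.Agent.LD.RP
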