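import Mathlib
import Groth.Prelude.Def_Coh
import Groth.Prelude.Def_ExtSupp
import Groth.Agent.Lib.Lead.RP.LemmaA
import Groth.Agent.Lib.Lead.RP.HomExact
import Groth.Agent.Lib.Lead.SC.FunLES
import Groth.Agent.Lib.Lead.KT.HomAcyc
import Groth.Agent.Lib.Helper2.RDer8

/-! # The long exact sequence of relative Ext sheaves in the first variable. -/

set_option autoImplicit false
universe u
open CategoryTheory Limits Opposite Abelian AlgebraicGeometry TopologicalSpace

namespace Groth.Agent.LD.RP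

open Groth.Agent.H2.RDer Groth.Agent.LD.SC.FunSES

section

variable (X Y : Scheme.{u}) (f : X ⟶ Y) (S : ShortComplex X.Modules)
    [ModSite.HasSheafHom (O := X.sheaf) S.X₁] [ModSite.HasSheafHom (O := X.sheaf) S.X₂]
    [ModSite.HasSheafHom (O := X.sheaf) S.X₃]

/-- `f_* Hom(F'', -) ⟶ f_* Hom(F, -)`. -/
noncomputable abbrev relα :
    ModSite.sheafHom (O := X.sheaf) S.X₃ ⋙ Scheme.Modules.pushforward f ⟶
      ModSite.sheafHom (O := X.sheaf) S.X₂ ⋙ Scheme.Modules.pushforward f :=
  Functor.whiskerRight (ExtSupp.sheafHomMap (O := X.sheaf) S.g) (Scheme.Modules.pushforward f)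

/-- `f_* Hom(F, -) ⟶ f_* Hom(F', -)`. -/
noncomputable abbrev relβ :
    ModSite.sheafHom (O := X.sheaf) S.X₂ ⋙ Scheme.Modules.pushforward f ⟶
      ModSite.sheafHom (O := X.sheaf) S.X₁ ⋙ Scheme.Modules.pushforward f :=
  Functor.whiskerRight (ExtSupp.sheafHomMap (O := X.sheaf) S.f) (Scheme.Modules.pushforward f)

lemma relα_relβ : relα X Y f S ≫ relβ X Y f S = 0 := by
  apply NatTrans.ext
  funext Q
  change (Scheme.Modules.pushforward f).map ((ExtSupp.sheafHomMap (O := X.sheaf) S.g).app Q) ≫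
    (Scheme.Modules.pushforward f).map ((ExtSupp.sheafHomMap (O := X.sheaf) S.f).app Q) = 0
  rw [← Functor.map_comp]
  exact (congrArg (Scheme.Modules.pushforward f).map
    (sheafHomMap_comp_zero_app X.sheaf S Q)).trans (Functor.map_zero _ _ _)

variable [HasInjectiveResolutions (ModSite.Mod X.sheaf)]

lemma rel_shortExact (hS : S.ShortExact) (Q : ModSite.Mod X.sheaf) (hQ : Injective Q) :
    (ShortComplex.mk ((relα X Y f S).app Q) ((relβ X Y f S).app Q)
      (app_comp_app _ _ (relα_relβ X Y f S) Q)).ShortExact := by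
  haveI := hQ
  haveI : HasInjectiveResolutions X.Modules := ‹HasInjectiveResolutions (ModSite.Mod X.sheaf)›
  have hSQ := shortExact_sheafHomMap X.sheaf S hS Q
  haveI : PreservesLimitsOfSize.{0, 0} (Scheme.Modules.pushforward f) :=
    (Scheme.Modules.pullbackPushforwardAdjunction f).rightAdjoint_preservesLimits
  haveI : PreservesFiniteLimits (Scheme.Modules.pushforward f) :=
    PreservesLimitsOfSize.preservesFiniteLimits.{0, 0} _
  have h0 : CohCx.IsTotallyAcyclic ((τ X).obj ((ModSite.sheafHom (O := X.sheaf) S.X₃).obj Q)) :=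
    Groth.Agent.LD.KT.isTotallyAcyclic_sheafHom_of_injective (O := X.sheaf) S.X₃ Q
  have h1 : IsZero (((Scheme.Modules.pushforward f).rightDerived 1).obj
      ((ModSite.sheafHom (O := X.sheaf) S.X₃).obj Q)) :=
    isZero_Rpush_of_isTotallyAcyclic f _ h0 1 Nat.one_pos
  exact shortExact_map_of_epi (Scheme.Modules.pushforward f) hSQ
    (epi_map_g_of_isZero (Scheme.Modules.pushforward f) hSQ h1)

end

end Groth.Agent.LD.RP
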