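import Mathlib

/-! # Acyclic resolutions in the contravariant variable compute a cohomological δ-functor. -/

universe v v' u u'
open CategoryTheory Limits

namespace Groth.Agent.LD.RP.ResDelta

variable (𝒜 : Type u) [Category.{v} 𝒜] [Abelian 𝒜] (ℬ : Type u') [Category.{v'} ℬ] [Abelian ℬ]

/-- a contravariant cohomological δ-functor (only the existence of connecting maps). -/
structure CDelta where
  E : ℕ → 𝒜 → ℬ
  map : ∀ (p : ℕ) {M M' : 𝒜} (_ : M' ⟶ M), E p M ⟶ E p M'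
  map_comp : ∀ (p : ℕ) {M M' M'' : 𝒜} (u : M'' ⟶ M') (v : M' ⟶ M),
    map p (u ≫ v) = map p v ≫ map p u
  mono_zero : ∀ (S : ShortComplex 𝒜), S.ShortExact → Mono (map 0 S.g)
  exact₂ : ∀ (S : ShortComplex 𝒜), S.ShortExact → ∀ p,
    ∃ w : map p S.g ≫ map p S.f = 0, (ShortComplex.mk _ _ w).Exact
  δex : ∀ (S : ShortComplex 𝒜), S.ShortExact → ∃ δ : ∀ p, E p S.X₁ ⟶ E (p + 1) S.X₃, ∀ p,
      (∃ w : map p S.f ≫ δ p = 0, (ShortComplex.mk _ _ w).Exact) ∧
      (∃ w : δ p ≫ map (p + 1) S.g = 0, (ShortComplex.mk _ _ w).Exact)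

variable {𝒜 ℬ}

/-- a (left) resolution of `F`, as sequences. -/
structure Res (F : 𝒜) where
  X : ℕ → 𝒜
  d : ∀ j, X (j + 1) ⟶ X j
  π : X 0 ⟶ F
  epi : Epi π
  w0 : d 0 ≫ π = 0
  ex0 : (ShortComplex.mk (d 0) π w0).Exact
  w : ∀ j, d (j + 1) ≫ d j = 0
  ex : ∀ j, (ShortComplex.mk (d (j + 1)) (d j) (w j)).Exact

namespace Res

variable {F : 𝒜} (R : Res F)

/-- the first syzygy sequence `0 → ker π → X 0 → F → 0`. -/
noncomputable def ses : ShortComplex 𝒜 := ShortComplex.mk (kernel.ι R.π) R.π (kernel.condition _)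

lemma ses_shortExact : R.ses.ShortExact := by
  haveI := R.epi
  exact ShortComplex.ShortExact.mk' (ShortComplex.exact_kernel R.π)
    (inferInstanceAs (Mono (kernel.ι R.π))) (inferInstanceAs (Epi R.π))

/-- `X 1 → ker π`. -/
noncomputable def π' : R.X 1 ⟶ kernel R.π := kernel.lift R.π (R.d 0) R.w0

@[reassoc (attr := simp)]
lemma π'_ι : R.π' ≫ kernel.ι R.π = R.d 0 := kernel.lift_ι _ _ _

lemma epi_π' : Epi R.π' := by
  have h := R.ex0
  rw [ShortComplex.exact_iff_epi_kernel_lift] at h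
  exact h

lemma d_π' : R.d 1 ≫ R.π' = 0 := by
  rw [← cancel_mono (kernel.ι R.π), Category.assoc, π'_ι, zero_comp]
  exact R.w 0

lemma exact_π' : (ShortComplex.mk (R.d 1) R.π' R.d_π').Exact := by
  let φ : ShortComplex.mk (R.d 1) R.π' R.d_π' ⟶ ShortComplex.mk (R.d 1) (R.d 0) (R.w 0) :=
    { τ₁ := 𝟙 _, τ₂ := 𝟙 _, τ₃ := kernel.ι R.π
      comm₁₂ := by simp
      comm₂₃ := by simp }
  haveI : Epi φ.τ₁ := inferInstanceAs (Epi (𝟙 _))
  haveI : IsIso φ.τ₂ := inferInstanceAs (IsIso (𝟙 _))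
  haveI : Mono φ.τ₃ := inferInstanceAs (Mono (kernel.ι R.π))
  exact (ShortComplex.exact_iff_of_epi_of_isIso_of_mono φ).2 (R.ex 0)

/-- the shifted resolution of the first syzygy. -/
noncomputable def shift : Res (kernel R.π) where
  X j := R.X (j + 1)
  d j := R.d (j + 1)
  π := R.π'
  epi := R.epi_π'
  w0 := R.d_π'
  ex0 := R.exact_π'
  w j := R.w (j + 1)
  ex j := R.ex (j + 1)

end Res

/-- a resolution in chain-complex form. -/
noncomputable def resOfChainComplex {F : 𝒜} (L : ChainComplex 𝒜 ℕ) (π : L.X 0 ⟶ F) (hepi : Epi π)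
    (hπ : L.d 1 0 ≫ π = 0) (hex0 : (ShortComplex.mk (L.d 1 0) π hπ).Exact)
    (hex : ∀ j : ℕ, L.ExactAt (j + 1)) : Res F where
  X j := L.X j
  d j := L.d (j + 1) j
  π := π
  epi := hepi
  w0 := hπ
  ex0 := hex0
  w j := L.d_comp_d _ _ _
  ex j := by
    have h := hex j
    rw [HomologicalComplex.exactAt_iff' L (j + 2) (j + 1) j (by simp) (by simp)] at h
    exact h

section homologyData

variable {S : ShortComplex ℬ}

/-- homology from a kernel and a cokernel given up to propositional equalities. -/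
theorem nonempty_homology_iso_of (S : ShortComplex ℬ) {K H : ℬ} (i : K ⟶ S.X₂)
    (wi : i ≫ S.g = 0) (hi : IsLimit (KernelFork.ofι i wi)) (f' : S.X₁ ⟶ K) (hf' : f' ≫ i = S.f)
    (π : K ⟶ H) (wπ : f' ≫ π = 0) (hπ : IsColimit (CokernelCofork.ofπ π wπ)) :
    Nonempty (S.homology ≅ H) := by
  have h : f' = hi.lift (KernelFork.ofι S.f S.zero) := by
    apply Fork.IsLimit.hom_ext hi
    rw [Fork.IsLimit.lift_ι]
    exact hf'
  subst h
  let hd : S.LeftHomologyData :=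
    { K := K, H := H, i := i, π := π, wi := wi, hi := hi, wπ := wπ, hπ := hπ }
  exact ⟨hd.homologyIso⟩

end homologyData

variable (D : CDelta 𝒜 ℬ) {F : 𝒜} (R : Res F)

/-- `E⁰ F` is the kernel of `E⁰(X 0) → E⁰(X 1)`. -/
theorem nonempty_kernel_iso : Nonempty (kernel (D.map 0 (R.d 0)) ≅ D.E 0 F) := by
  obtain ⟨w, hw⟩ := D.exact₂ R.ses R.ses_shortExact 0
  haveI : Mono (ShortComplex.mk (D.map 0 R.ses.g) (D.map 0 R.ses.f) w).f :=
    D.mono_zero R.ses R.ses_shortExact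
  have hm : Mono (D.map 0 R.π') := D.mono_zero R.shift.ses R.shift.ses_shortExact
  have hk : IsLimit (KernelFork.ofι (D.map 0 R.π) w) := hw.fIsKernel
  have hd : D.map 0 (R.d 0) = D.map 0 (kernel.ι R.π) ≫ D.map 0 R.π' := by
    rw [← D.map_comp, Res.π'_ι]
  have hk' := isKernelCompMono hk (D.map 0 R.π') (hg := hm) hd
  exact ⟨IsLimit.conePointUniqueUpToIso (kernelIsKernel (D.map 0 (R.d 0))) hk'⟩

/-- dimension shifting. -/
theorem nonempty_shift_iso (k : ℕ) (h1 : IsZero (D.E (k + 1) (R.X 0)))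
    (h2 : IsZero (D.E (k + 2) (R.X 0))) :
    Nonempty (D.E (k + 1) (kernel R.π) ≅ D.E (k + 2) F) := by
  obtain ⟨δ, hδ⟩ := D.δex R.ses R.ses_shortExact
  obtain ⟨⟨w1, e1⟩, ⟨w2, e2⟩⟩ := hδ (k + 1)
  haveI : Mono (δ (k + 1)) := e1.mono_g (h1.eq_of_src _ _)
  haveI : Epi (δ (k + 1)) := e2.epi_f (h2.eq_of_tgt _ _)
  haveI : IsIso (δ (k + 1)) := isIso_of_mono_of_epi _
  have e := asIso (δ (k + 1))
  exact ⟨e⟩

/-- the first cohomology. -/
theorem nonempty_homology_one_iso (h1 : IsZero (D.E 1 (R.X 0)))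
    (hz : D.map 0 (R.d 0) ≫ D.map 0 (R.d 1) = 0) :
    Nonempty ((ShortComplex.mk _ _ hz).homology ≅ D.E 1 F) := by
  -- kernel part, from the shifted resolution
  obtain ⟨w, hw⟩ := D.exact₂ R.shift.ses R.shift.ses_shortExact 0
  haveI : Mono (ShortComplex.mk (D.map 0 R.shift.ses.g) (D.map 0 R.shift.ses.f) w).f :=
    D.mono_zero R.shift.ses R.shift.ses_shortExact
  have hm : Mono (D.map 0 R.shift.π') := D.mono_zero R.shift.shift.ses R.shift.shift.ses_shortExact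
  have hk : IsLimit (KernelFork.ofι (D.map 0 R.π') w) := hw.fIsKernel
  have hd1 : D.map 0 (R.d 1) = D.map 0 (kernel.ι R.shift.π) ≫ D.map 0 R.shift.π' := by
    rw [← D.map_comp, Res.π'_ι]
    rfl
  have hk' := isKernelCompMono hk (D.map 0 R.shift.π') (hg := hm) hd1
  have hd0 : D.map 0 (kernel.ι R.π) ≫ D.map 0 R.π' = D.map 0 (R.d 0) := by
    rw [← D.map_comp, Res.π'_ι]
  -- cokernel part
  obtain ⟨δ, hδ⟩ := D.δex R.ses R.ses_shortExact
  obtain ⟨⟨w1, e1⟩, ⟨w2, e2⟩⟩ := hδ 0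
  haveI : Epi (δ 0) := e2.epi_f (h1.eq_of_tgt _ _)
  have hc : IsColimit (CokernelCofork.ofπ (δ 0) w1) := e1.gIsCokernel
  exact nonempty_homology_iso_of (ShortComplex.mk _ _ hz) (D.map 0 R.π') _ hk'
    (D.map 0 (kernel.ι R.π)) hd0 (δ 0) w1 hc

/-- the higher cohomology. -/
theorem nonempty_homology_succ_iso (k : ℕ) :
    ∀ {F : 𝒜} (R : Res F) (_ : ∀ j p, IsZero (D.E (p + 1) (R.X j)))
      (hz : ∀ j, D.map 0 (R.d j) ≫ D.map 0 (R.d (j + 1)) = 0),
      Nonempty ((ShortComplex.mk _ _ (hz k)).homology ≅ D.E (k + 1) F) := by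
  induction k with
  | zero =>
    intro F R hR hz
    exact nonempty_homology_one_iso D R (hR 0 0) (hz 0)
  | succ k ih =>
    intro F R hR hz
    obtain ⟨e⟩ := ih R.shift (fun j p => hR (j + 1) p) (fun j => hz (j + 1))
    obtain ⟨e'⟩ := nonempty_shift_iso D R k (hR 0 k) (hR 0 (k + 1))
    exact ⟨e ≪≫ e'⟩

/-- **Main theorem**: a cochain complex identified with `E⁰` of an acyclic resolution of `F`
computes `Eⁱ F`. -/
theorem nonempty_homology_iso (hR : ∀ j p, IsZero (D.E (p + 1) (R.X j)))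
    (C : CochainComplex ℬ ℕ) (e : ∀ j, C.X j ≅ D.E 0 (R.X j))
    (hC : ∀ j, C.d j (j + 1) ≫ (e (j + 1)).hom = (e j).hom ≫ D.map 0 (R.d j)) (i : ℕ) :
    Nonempty (C.homology i ≅ D.E i F) := by
  have hz : ∀ j, D.map 0 (R.d j) ≫ D.map 0 (R.d (j + 1)) = 0 := by
    intro j
    rw [← cancel_epi (e j).hom, ← Category.assoc, ← hC j, Category.assoc, ← hC (j + 1),
      ← Category.assoc, C.d_comp_d, zero_comp, comp_zero]
  cases i with
  | zero =>
    obtain ⟨e0⟩ := nonempty_kernel_iso D R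
    have hk : IsLimit (KernelFork.ofι (C.iCycles 0) (C.iCycles_d 0 1)) :=
      C.cyclesIsKernel 0 1 (by simp)
    let e1 := IsLimit.conePointUniqueUpToIso hk (kernelIsKernel (C.d 0 1))
    let e2 : kernel (C.d 0 1) ≅ kernel (D.map 0 (R.d 0)) :=
      kernel.mapIso _ _ (e 0) (e 1) (hC 0)
    exact ⟨C.isoHomologyπ₀.symm ≪≫ e1 ≪≫ e2 ≪≫ e0⟩
  | succ k =>
    obtain ⟨e0⟩ := nonempty_homology_succ_iso D k R hR hz
    let e1 : C.homology (k + 1) ≅ (C.sc' k (k + 1) (k + 2)).homology :=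
      C.homologyIsoSc' k (k + 1) (k + 2) (by simp) (by simp)
    let e2 : C.sc' k (k + 1) (k + 2) ≅ ShortComplex.mk _ _ (hz k) :=
      ShortComplex.isoMk (e k) (e (k + 1)) (e (k + 2)) (hC k).symm (hC (k + 1)).symm
    exact ⟨e1 ≪≫ ShortComplex.homologyMapIso e2 ≪≫ e0⟩

end Groth.Agent.LD.RP.ResDelta
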