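import Mathlib
import Groth.Prelude.Def_Coh
import Groth.Prelude.Def_ExtSupp
import Groth.Agent.Lib.Lead.RP.RelExtLES
import Groth.Agent.Lib.Lead.RP.ResDelta
import Groth.Agent.Lib.Lead.SC.ZeroNat
import Groth.Agent.Lib.Lead.MS.TensorColim

/-! # Relative Ext sheaves via acyclic resolutions of the first variable. -/

set_option autoImplicit false
universe u
open CategoryTheory Limits Opposite Abelian AlgebraicGeometry TopologicalSpace

namespace Groth.Agent.LD.RP

open Groth.Agent.H2.RDer Groth.Agent.LD.SC.FunSES ResDelta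

section general

variable {C : Type u} [SmallCategory C] {J : GrothendieckTopology C} (O : Sheaf J CommRingCat.{u})

theorem sheafHomMap_comp {M M' M'' : ModSite.Mod O} [ModSite.HasSheafHom M] [ModSite.HasSheafHom M']
    [ModSite.HasSheafHom M''] (u : M'' ⟶ M') (v : M' ⟶ M) :
    ExtSupp.sheafHomMap (u ≫ v) = ExtSupp.sheafHomMap v ≫ ExtSupp.sheafHomMap u := by
  dsimp only [ExtSupp.sheafHomMap]
  rw [conjugateEquiv_comp, ← Functor.map_comp]

instance sheafHom_additive (M : ModSite.Mod O) [ModSite.HasSheafHom M] :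
    (ModSite.sheafHom M).Additive :=
  (ModSite.sheafHomAdj M).right_adjoint_additive

end general

section

variable (X Y : Scheme.{u}) (f : X ⟶ Y) (G : X.Modules)
  [HasInjectiveResolutions (ModSite.Mod X.sheaf)]

attribute [local instance] Groth.Agent.LD.MS.hasSheafHom

omit [HasInjectiveResolutions (ModSite.Mod X.sheaf)] in
theorem relAdditive (M : X.Modules) [ModSite.HasSheafHom (O := X.sheaf) M] :
    (ModSite.sheafHom (O := X.sheaf) M ⋙ Scheme.Modules.pushforward f).Additive := by
  haveI : (ModSite.sheafHom (O := X.sheaf) M).Additive := sheafHom_additive X.sheaf M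
  haveI : (Scheme.Modules.pushforward f).Additive := inferInstance
  exact ⟨fun {A B u v} =>
    (congrArg (Scheme.Modules.pushforward f).map
      (Functor.map_add (F := ModSite.sheafHom (O := X.sheaf) M) (f := u) (g := v))).trans
      (Functor.map_add _)⟩

attribute [local instance] relAdditive

/-- the relative Ext sheaves `Ext^p_f(-, G)` as a contravariant δ-functor. -/
noncomputable def relDelta : CDelta X.Modules Y.Modules where
  E p M := ((ModSite.sheafHom (O := X.sheaf) M ⋙ Scheme.Modules.pushforward f).rightDerived p).obj G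
  map p {M M'} u := (NatTrans.rightDerived (Functor.whiskerRight
    (ExtSupp.sheafHomMap (O := X.sheaf) u) (Scheme.Modules.pushforward f)) p).app G
  map_comp p {M M' M''} u v := by
    have h := sheafHomMap_comp X.sheaf u v
    have h2 : Functor.whiskerRight (ExtSupp.sheafHomMap (O := X.sheaf) (u ≫ v))
          (Scheme.Modules.pushforward f) =
        Functor.whiskerRight (ExtSupp.sheafHomMap (O := X.sheaf) v) (Scheme.Modules.pushforward f) ≫
          Functor.whiskerRight (ExtSupp.sheafHomMap (O := X.sheaf) u)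
            (Scheme.Modules.pushforward f) :=
      (congrArg (fun t => Functor.whiskerRight t (Scheme.Modules.pushforward f)) h).trans
        (Functor.whiskerRight_comp _ _ _)
    have h3 := (congrArg (fun t => NatTrans.rightDerived t p) h2).trans
      (NatTrans.rightDerived_comp _ _ _)
    exact (congrArg (fun t => t.app G) h3).trans (NatTrans.comp_app _ _ _)
  mono_zero S hS :=
    mono_rα_zero _ _ (relα_relβ X Y f S) (rel_shortExact X Y f S hS) G
  exact₂ S hS p := ⟨_, exact₂ _ _ (relα_relβ X Y f S) (rel_shortExact X Y f S hS) G p⟩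
  δex S hS := ⟨fun p => (δnat _ _ (relα_relβ X Y f S) (rel_shortExact X Y f S hS) p).app G,
    fun p => ⟨⟨_, exact₃ _ _ (relα_relβ X Y f S) (rel_shortExact X Y f S hS) G p⟩,
      ⟨_, exact₁ _ _ (relα_relβ X Y f S) (rel_shortExact X Y f S hS) G p⟩⟩⟩

omit [HasInjectiveResolutions (ModSite.Mod X.sheaf)] in
theorem relPreservesFiniteLimits (M : X.Modules) [ModSite.HasSheafHom (O := X.sheaf) M] :
    PreservesFiniteLimits (ModSite.sheafHom (O := X.sheaf) M ⋙ Scheme.Modules.pushforward f) := by
  let Φ : ModSite.Mod X.sheaf ⥤ Y.Modules := Scheme.Modules.pushforward f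
  haveI : PreservesLimitsOfSize.{0, 0} Φ :=
    (Scheme.Modules.pullbackPushforwardAdjunction f).rightAdjoint_preservesLimits
  haveI : PreservesFiniteLimits Φ :=
    PreservesLimitsOfSize.preservesFiniteLimits.{0, 0} _
  haveI : PreservesLimitsOfSize.{0, 0} (ModSite.sheafHom (O := X.sheaf) M) :=
    (ModSite.sheafHomAdj (O := X.sheaf) M).rightAdjoint_preservesLimits
  haveI : PreservesFiniteLimits (ModSite.sheafHom (O := X.sheaf) M) :=
    PreservesLimitsOfSize.preservesFiniteLimits.{0, 0} _
  exact comp_preservesFiniteLimits (ModSite.sheafHom (O := X.sheaf) M) Φ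

/-- **S16286**: relative Ext via a resolution of the first variable by acyclic objects. -/
theorem relExt_of_resolution (F : X.Modules)
    (L : ChainComplex X.Modules ℕ) (π : L.X 0 ⟶ F) [Epi π] (hπ : L.d 1 0 ≫ π = 0)
    (hex0 : (ShortComplex.mk (L.d 1 0) π hπ).Exact) (hex : ∀ j : ℕ, L.ExactAt (j + 1))
    (hL : ∀ (j : ℕ) (p : ℕ), 1 ≤ p → IsZero (((ModSite.sheafHom (O := X.sheaf) (L.X j) ⋙
      Scheme.Modules.pushforward f).rightDerived p).obj G))
    (C : CochainComplex Y.Modules ℕ)
    (e : ∀ j : ℕ, C.X j ≅ (Scheme.Modules.pushforward f).obj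
      ((ModSite.sheafHom (O := X.sheaf) (L.X j)).obj G))
    (hC : ∀ j : ℕ, C.d j (j + 1) ≫ (e (j + 1)).hom =
      (e j).hom ≫ (Scheme.Modules.pushforward f).map
        ((ExtSupp.sheafHomMap (O := X.sheaf) (L.d (j + 1) j)).app G))
    (i : ℕ) :
    Nonempty (C.homology i ≅ ((ModSite.sheafHom (O := X.sheaf) F ⋙
      Scheme.Modules.pushforward f).rightDerived i).obj G) := by
  let D := relDelta X Y f G
  let R : Res F := resOfChainComplex L π inferInstance hπ hex0 hex
  haveI : ∀ j, PreservesFiniteLimits (ModSite.sheafHom (O := X.sheaf) (L.X j) ⋙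
      Scheme.Modules.pushforward f) := fun j => relPreservesFiniteLimits X Y f (L.X j)
  have hiso : ∀ j, IsIso ((ModSite.sheafHom (O := X.sheaf) (L.X j) ⋙
      Scheme.Modules.pushforward f).toRightDerivedZero.app G) := fun j => inferInstance
  let e'' : ∀ j, (Scheme.Modules.pushforward f).obj
      ((ModSite.sheafHom (O := X.sheaf) (L.X j)).obj G) ≅ D.E 0 (R.X j) := fun j =>
    @asIso _ _ _ _ ((ModSite.sheafHom (O := X.sheaf) (L.X j) ⋙
      Scheme.Modules.pushforward f).toRightDerivedZero.app G) (hiso j)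
  let e' : ∀ j, C.X j ≅ D.E 0 (R.X j) := fun j => e j ≪≫ e'' j
  refine nonempty_homology_iso D R (fun j p => hL j (p + 1) (by omega)) C e' (fun j => ?_) i
  have hn := toRightDerivedZero_naturality' (Functor.whiskerRight
    (ExtSupp.sheafHomMap (O := X.sheaf) (L.d (j + 1) j)) (Scheme.Modules.pushforward f)) G
  change C.d j (j + 1) ≫ (e (j + 1)).hom ≫ _ = ((e j).hom ≫ _) ≫ _
  rw [reassoc_of% (hC j), Category.assoc]
  congr 1

end

end Groth.Agent.LD.RP
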