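import Mathlib
import Groth.Prelude.Def_ExtSupp
import Groth.Agent.Lib.Lead.RP.RelExtRes

/-! # Local Ext sheaves via acyclic resolutions of the first variable. -/

set_option autoImplicit false
universe u
open CategoryTheory Limits Opposite Abelian

namespace Groth.Agent.LD.RP

open Groth.Agent.H2.RDer Groth.Agent.LD.SC.FunSES ResDelta

section

variable {C : Type u} [SmallCategory C] {J : GrothendieckTopology C} (O : Sheaf J CommRingCat.{u})
  (G : ModSite.Mod O) [HasInjectiveResolutions (ModSite.Mod O)]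

attribute [local instance] Groth.Agent.LD.MS.hasSheafHom

/-- the local Ext sheaves `Ext^p(-, G)` as a contravariant δ-functor. -/
noncomputable def extDelta : CDelta (ModSite.Mod O) (ModSite.Mod O) where
  E p M := ((ModSite.sheafHom M).rightDerived p).obj G
  map p {M M'} u := (NatTrans.rightDerived (ExtSupp.sheafHomMap u) p).app G
  map_comp p {M M' M''} u v := by
    have h := sheafHomMap_comp O u v
    have h3 := (congrArg (fun t => NatTrans.rightDerived t p) h).trans
      (NatTrans.rightDerived_comp _ _ _)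
    exact (congrArg (fun t => t.app G) h3).trans (NatTrans.comp_app _ _ _)
  mono_zero S hS :=
    mono_rα_zero _ _ (sheafHomMap_comp_zero O S)
      (fun Q hQ => haveI := hQ; shortExact_sheafHomMap O S hS Q) G
  exact₂ S hS p := ⟨_, exact₂ _ _ (sheafHomMap_comp_zero O S)
      (fun Q hQ => haveI := hQ; shortExact_sheafHomMap O S hS Q) G p⟩
  δex S hS := ⟨fun p => (δnat _ _ (sheafHomMap_comp_zero O S)
      (fun Q hQ => haveI := hQ; shortExact_sheafHomMap O S hS Q) p).app G,
    fun p => ⟨⟨_, exact₃ _ _ (sheafHomMap_comp_zero O S)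
      (fun Q hQ => haveI := hQ; shortExact_sheafHomMap O S hS Q) G p⟩,
      ⟨_, exact₁ _ _ (sheafHomMap_comp_zero O S)
      (fun Q hQ => haveI := hQ; shortExact_sheafHomMap O S hS Q) G p⟩⟩⟩

/-- local Ext via a resolution of the first variable by `Hom(-, G)`-acyclic objects. -/
theorem extSh_of_resolution (F : ModSite.Mod O)
    (L : ChainComplex (ModSite.Mod O) ℕ) (π : L.X 0 ⟶ F) [Epi π] (hπ : L.d 1 0 ≫ π = 0)
    (hex0 : (ShortComplex.mk (L.d 1 0) π hπ).Exact) (hex : ∀ j : ℕ, L.ExactAt (j + 1))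
    (hL : ∀ (j : ℕ) (p : ℕ), IsZero (((ModSite.sheafHom (L.X j)).rightDerived (p + 1)).obj G))
    (C : CochainComplex (ModSite.Mod O) ℕ)
    (e : ∀ j : ℕ, C.X j ≅ (ModSite.sheafHom (L.X j)).obj G)
    (hC : ∀ j : ℕ, C.d j (j + 1) ≫ (e (j + 1)).hom =
      (e j).hom ≫ (ExtSupp.sheafHomMap (L.d (j + 1) j)).app G)
    (i : ℕ) :
    Nonempty (C.homology i ≅ ((ModSite.sheafHom F).rightDerived i).obj G) := by
  let D := extDelta O G
  let R : Res F := resOfChainComplex L π inferInstance hπ hex0 hex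
  haveI : ∀ j, PreservesFiniteLimits (ModSite.sheafHom (L.X j)) := fun j =>
    haveI : PreservesLimitsOfSize.{0, 0} (ModSite.sheafHom (L.X j)) :=
      (ModSite.sheafHomAdj (L.X j)).rightAdjoint_preservesLimits
    PreservesLimitsOfSize.preservesFiniteLimits.{0, 0} _
  have hiso : ∀ j, IsIso ((ModSite.sheafHom (L.X j)).toRightDerivedZero.app G) :=
    fun j => inferInstance
  let e'' : ∀ j, (ModSite.sheafHom (L.X j)).obj G ≅ D.E 0 (R.X j) := fun j =>
    @asIso _ _ _ _ ((ModSite.sheafHom (L.X j)).toRightDerivedZero.app G) (hiso j)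
  let e' : ∀ j, C.X j ≅ D.E 0 (R.X j) := fun j => e j ≪≫ e'' j
  refine nonempty_homology_iso D R (fun j p => hL j p) C e' (fun j => ?_) i
  have hn := toRightDerivedZero_naturality' (ExtSupp.sheafHomMap (L.d (j + 1) j)) G
  change C.d j (j + 1) ≫ (e (j + 1)).hom ≫ _ = ((e j).hom ≫ _) ≫ _
  rw [reassoc_of% (hC j), Category.assoc]
  congr 1

end

end Groth.Agent.LD.RP
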